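import Mathlib
import Groth.Agent.EtFound.ProperHenselLifts
import Groth.Agent.GrpSchLib.AntiAffine
import Groth.Agent.GeomField.Connected
import Groth.Agent.GrpSchLib.FieldSmooth
import Groth.Agent.S0537
import Groth.Agent.S0539

/-!
# Connectedness theorem for proper morphisms with `p_* O = O`
-/

set_option autoImplicit false
set_option backward.isDefEq.respectTransparency false
set_option backward.isDefEq.respectTransparency.types false
universe u

open AlgebraicGeometry CategoryTheory CategoryTheory.Limits IsLocalRing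

namespace Groth.Agent.SteinConn

/-- If sections over an affine open of the base are unchanged, they stay so after a flat affine
base change landing in that open. -/
theorem bijective_appTop_of_flat {X Y X' T : Scheme.{u}} {p : X ⟶ Y} [QuasiCompact p]
    [QuasiSeparated p] {t : T ⟶ Y} [Flat t] [IsAffine T] {a : X' ⟶ X} {b : X' ⟶ T}
    (H : IsPullback a b p t) {W : Y.Opens} (hW : IsAffineOpen W) (htW : t ⁻¹ᵁ W = ⊤)
    (hp : Function.Bijective (p.app W)) : Function.Bijective b.appTop := by
  have hiso := isIso_pushoutSection_of_isQuasiSeparated_of_flat_right H (US := W) (UT := ⊤)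
    (UX := p ⁻¹ᵁ W) (UY := ⊤) htW.ge le_rfl
    (by rw [← Scheme.Hom.comp_preimage, H.w, Scheme.Hom.comp_preimage, htW]; simp) hW
    (isAffineOpen_top _)
    (QuasiCompact.isCompact_preimage (f := p) _ W.isOpen hW.isCompact)
    (by
      haveI : IsAffine W.toScheme := hW
      haveI : QuasiSeparated (p ∣_ W) := IsZariskiLocalAtTarget.restrict (P := @QuasiSeparated) inferInstance W
      exact (isQuasiSeparated_iff_quasiSeparatedSpace _ (p ⁻¹ᵁ W).isOpen).mpr
        (quasiSeparatedSpace_of_quasiSeparated (p ∣_ W)))
  rw [isIso_pushoutSection_iff] at hiso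
  haveI : IsIso (p.appLE W (p ⁻¹ᵁ W) le_rfl) := by
    rw [← Scheme.Hom.app_eq_appLE]
    exact (ConcreteCategory.isIso_iff_bijective _).mpr hp
  have := hiso.isIso_inr_of_isIso
  rw [show b.appTop = b.appLE ⊤ ⊤ (by simp) by simp [Scheme.Hom.appLE]]
  exact ConcreteCategory.bijective_of_isIso _

/-- The closed fibre of a proper scheme over a henselian local ring with no other global functions
is connected. -/
theorem connected_closedFibre {S : Type u} [CommRing S] [HenselianLocalRing S] {Y : Scheme.{u}}
    (h : Y ⟶ Spec (CommRingCat.of S)) [IsProper h] (hbij : Function.Bijective h.appTop) :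
    _root_.IsConnected (h ⁻¹' {closedPoint S}) := by
  have hZ : h ⁻¹' PrimeSpectrum.zeroLocus (maximalIdeal S : Set S) = h ⁻¹' {closedPoint S} := by
    congr 1
    exact (PrimeSpectrum.zeroLocus_eq_singleton (maximalIdeal S))
  have hl := ProperHenselLifts.lifts_proper' (maximalIdeal S) h
  rw [hZ] at hl
  let e : S →+* Γ(Y, ⊤) := h.appTop.hom.comp (Scheme.ΓSpecIso (CommRingCat.of S)).inv.hom
  have he : Function.Bijective e :=
    hbij.comp (ConcreteCategory.bijective_of_isIso (Scheme.ΓSpecIso (CommRingCat.of S)).inv)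
  haveI : PreconnectedSpace ↥Y := GrpSchLib.AntiAffine.preconnectedSpace_of_forall_idem fun x hx => by
    obtain ⟨s, rfl⟩ := he.2 x
    have hs : IsIdempotentElem s := he.1 (by rw [map_mul]; exact hx)
    rcases IsLocalRing.isUnit_or_isUnit_one_sub_self s with hu | hu
    · exact Or.inr (by rw [hu.mul_eq_left.mp hs.eq, map_one])
    · left
      have h0 : (1 - s) * s = 0 := by rw [sub_mul, one_mul, hs.eq, sub_self]
      rw [hu.mul_right_eq_zero.mp h0, map_zero]
  obtain ⟨z, hz⟩ : (h ⁻¹' {closedPoint S}).Nonempty := by
    haveI : Nontrivial Γ(Y, ⊤) := he.1.nontrivial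
    obtain ⟨y⟩ : Nonempty ↥Y := by
      by_contra hne
      haveI := not_nonempty_iff.mp hne
      exact not_subsingleton Γ(Y, ⊤) inferInstance
    have hc : IsClosed (Set.range h) := h.isClosedMap.isClosed_range
    obtain ⟨w, hw⟩ : closedPoint S ∈ Set.range h :=
      (IsLocalRing.specializes_closedPoint (h y : PrimeSpectrum S)).mem_closed hc ⟨y, rfl⟩
    exact ⟨w, hw⟩
  refine ⟨⟨z, hz⟩, ?_⟩
  rw [isPreconnected_iff_preconnectedSpace]
  rw [preconnectedSpace_iff_clopen]
  intro V hV
  obtain ⟨U, ⟨hU, hUV⟩, -⟩ := hl V hV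
  rcases isClopen_iff.mp hU with rfl | rfl
  · exact Or.inl (by rw [← hUV, Set.preimage_empty])
  · exact Or.inr (by rw [← hUV, Set.preimage_univ])

/-- A proper morphism with `p_* O = O` has geometrically connected fibres. -/
theorem geometricallyConnected_of_bijective_app {X Y : Scheme.{u}} (p : X ⟶ Y) [IsProper p]
    (hp : ∀ W : Y.Opens, IsAffineOpen W → Function.Bijective (p.app W)) : GeometricallyConnected p := by
  rw [GeometricallyConnected.iff_geometricallyConnected_fiber]
  intro y
  obtain ⟨_, ⟨W, hW, rfl⟩, hyW, -⟩ := Y.isBasis_affineOpens.exists_subset_of_mem_open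
    (Set.mem_univ y) isOpen_univ
  let R := Y.presheaf.stalk y
  obtain ⟨S, _, _, _, _, hS⟩ := S0537.result R
  haveI := hS
  haveI := hS.henselian
  haveI := hS.isSepClosure
  haveI : Module.FaithfullyFlat R S := S0539.result R S
  let t : Spec (CommRingCat.of S) ⟶ Y :=
    Spec.map (CommRingCat.ofHom (algebraMap R S)) ≫ Y.fromSpecStalk y
  haveI : Flat (Spec.map (CommRingCat.ofHom (algebraMap R S))) :=
    (HasRingHomProperty.Spec_iff (P := @Flat)).mpr (RingHom.flat_algebraMap_iff.mpr inferInstance)
  haveI : Flat (Y.fromSpecStalk y) := GrpSchLib.flat_fromSpecStalk y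
  haveI : Flat t := inferInstance
  have htW : t ⁻¹ᵁ W = ⊤ := by
    refine top_le_iff.mp fun s _ => ?_
    have h1 : (Y.fromSpecStalk y (Spec.map (CommRingCat.ofHom (algebraMap R S)) s)) ⤳ y :=
      Scheme.range_fromSpecStalk.le ⟨_, rfl⟩
    exact h1.mem_open W.isOpen hyW
  have hconn := connected_closedFibre (pullback.snd p t)
    (bijective_appTop_of_flat (IsPullback.of_hasPullback p t) hW htW (hp W hW))
  -- the residue field of `S` is a separable closure
  let k := ResidueField R
  let ks := ResidueField S
  let j : Spec (CommRingCat.of ks) ⟶ Spec (CommRingCat.of S) :=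
    Spec.map (CommRingCat.ofHom (residue S))
  haveI : IsClosedImmersion j := IsClosedImmersion.spec_of_surjective _ residue_surjective
  have hjt : j ≫ t = Spec.map (CommRingCat.ofHom (algebraMap k ks)) ≫ Y.fromSpecResidueField y := by
    show j ≫ Spec.map _ ≫ Y.fromSpecStalk y = _ ≫ Spec.map (Y.residue y) ≫ Y.fromSpecStalk y
    rw [← Category.assoc, ← Category.assoc, ← Spec.map_comp, ← Spec.map_comp]
    rfl
  have hrj : Set.range j = {closedPoint S} := by
    rw [Set.range_eq_singleton_iff]
    intro x
    exact (Subsingleton.elim (closedPoint ks) x) ▸ comap_closedPoint (residue S)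
  letI : (p.fiber y).Over (Spec (CommRingCat.of k)) := ⟨p.fiberToSpecResidueField y⟩
  -- the fibre over the separable closure
  let Z := pullback (pullback.snd p t) j
  haveI : ConnectedSpace ↥Z := by
    have hr : Set.range (pullback.fst (pullback.snd p t) j) = pullback.snd p t ⁻¹' {closedPoint S} := by
      rw [Scheme.Pullback.range_fst, hrj]
    haveI := isConnected_iff_connectedSpace.mp (hr ▸ hconn)
    exact (pullback.fst (pullback.snd p t) j).isEmbedding.toHomeomorph.symm.surjective.connectedSpace
      (pullback.fst (pullback.snd p t) j).isEmbedding.toHomeomorph.symm.continuous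
  let σ : ks ≃ₐ[k] SeparableClosure k := IsSepClosure.equiv k ks (SeparableClosure k)
  let φ : Spec (CommRingCat.of (SeparableClosure k)) ≅ Spec (CommRingCat.of ks) :=
    Scheme.Spec.mapIso σ.toRingEquiv.toCommRingCatIso.op
  have h1 : IsPullback (pullback.fst (pullback.snd p t) j ≫ pullback.fst p t)
      (pullback.snd (pullback.snd p t) j ≫ φ.inv)
      p (Spec.map (CommRingCat.ofHom (algebraMap k (SeparableClosure k))) ≫ Y.fromSpecResidueField y) := by
    refine ((IsPullback.of_hasPullback (pullback.snd p t) j).paste_horiz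
      (IsPullback.of_hasPullback p t)).of_iso (Iso.refl _) (Iso.refl _) φ.symm (Iso.refl _) ?_ ?_ ?_ ?_
    · simp
    · simp
    · simp
    · rw [Iso.symm_hom, Iso.refl_hom, Category.comp_id, hjt, ← Category.assoc]
      congr 1
      simp only [φ, Functor.mapIso_inv, Scheme.Spec_map, ← Spec.map_comp]
      congr 1
      ext x
      exact (σ.symm.commutes x).symm
  have h2 : IsPullback (Curv2.bcFst k (p.fiber y) (SeparableClosure k) ≫ p.fiberι y)
      (Curv2.bcSnd k (p.fiber y) (SeparableClosure k)) p
      (Spec.map (CommRingCat.ofHom (algebraMap k (SeparableClosure k))) ≫ Y.fromSpecResidueField y) :=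
    (IsPullback.of_hasPullback (p.fiberToSpecResidueField y) _).paste_horiz
      (IsPullback.of_hasPullback p (Y.fromSpecResidueField y))
  refine GeomField.geometricallyConnected_of_separableClosure (k := k) (X := p.fiber y) ?_
  exact (Scheme.homeoOfIso (h1.isoIsPullback _ _ h2)).surjective.connectedSpace
    (Scheme.homeoOfIso (h1.isoIsPullback _ _ h2)).continuous

end Groth.Agent.SteinConn
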